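import Cfsg.Agent.Lib.Fusion.CoreCent.Main
import Cfsg.Agent.Lib.Fusion.SubCent.Centralizer

/-!
Components centralise the largest normal subgroup.
-/

set_option autoImplicit false
set_option linter.unusedSectionVars false
set_option linter.style.haveILetI false

namespace Cfsg.FusionSystem.CoreCent

open Cfsg.FusionSystem.SubCent

universe u

variable {Ω : Type u} [Group Ω] {S T U : Subgroup Ω} {F : FusionSystem S} {D : FusionSystem U}
  {R : Subgroup Ω} {p : ℕ} [Fact p.Prime]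

/-- The trace of a normal subgroup on a saturated subsystem over a strongly closed subgroup is normal there. -/
theorem isNormal_inf [Finite S] (hS : IsPGroup p S) (hR : F.IsNormal R) (hD : D.IsSaturated p)
    (hsub : D.IsSubsystemOf F) (hU : F.StronglyClosed U) : D.IsNormal (R ⊓ U) := by
  haveI := finite_of_le hU.1
  haveI := finite_of_le hR.1
  haveI : Group.IsNilpotent R := (hS.to_le hR.1).isNilpotent
  obtain ⟨n, hn⟩ := Group.IsNilpotent.nilpotent R
  let Z : ℕ → Subgroup Ω := fun i => (Subgroup.upperCentralSeries R i).map R.subtype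
  have hZ : ∀ i, F.StronglyClosed (Z i) := by
    intro i
    refine (hR.of_characteristic (Subgroup.map_subtype_le _) ?_).stronglyClosed
    rw [Subgroup.subgroupOf, Subgroup.comap_map_eq_self_of_injective R.subtype_injective]
    infer_instance
  refine hD.isNormal_of_series (hS.to_le hU.1) (n := n) (fun i => Z i ⊓ U) ?_ ?_ ?_
    fun i => ⟨⟨inf_le_right, fun P hP φ hφ y =>
      ⟨(hZ _).2 P (hP.trans inf_le_left) φ (hsub P hφ) y, D.apply_mem hφ y⟩⟩, ?_⟩
  · simp [Z]
  · simp [Z, hn, ← MonoidHom.range_eq_map]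
  · intro i j hij
    exact inf_le_inf_right _ (Subgroup.map_mono (Subgroup.upperCentralSeries_mono _ hij))
  · refine Subgroup.commutator_le.mpr fun a ha b hb => ?_
    obtain ⟨y, hy, hyb⟩ := hb.1
    refine ⟨?_, U.mul_mem (U.mul_mem (U.mul_mem ha.2 hb.2) (U.inv_mem ha.2)) (U.inv_mem hb.2)⟩
    subst hyb
    have h1 := InvMemClass.inv_mem ((Subgroup.mem_upperCentralSeries_succ_iff.mp hy) ⟨a, ha.1⟩)
    exact ⟨_, h1, by simp [commutatorElement_def, mul_assoc]⟩

theorem hyperfocal_inner [Finite S] (hS : IsPGroup p S) : (innerFusionSystem S).hyperfocalSubgroup p = ⊥ := by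
  rw [eq_bot_iff, hyperfocalSubgroup_le_iff]
  intro P hP α hα hαp x
  haveI := finite_of_le hP
  rw [autGroup_innerFusionSystem hP] at hα
  obtain ⟨k, hk⟩ := isPGroup_autInducedBy (P := P) hS ⟨α, hα⟩
  have h1 : α = 1 := eq_one_of_coprime_pow (congrArg Subtype.val hk) (pow_orderOf_eq_one α)
    (Nat.Coprime.pow_left k hαp.symm)
  rw [h1, Subgroup.mem_bot]
  simp

/-- The inner system of a normal subgroup is normal. -/
theorem isNormalIn_inner [Finite S] (hS : IsPGroup p S) (hF : F.IsSaturated p) (hR : F.IsNormal R) :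
    (innerFusionSystem R).IsNormalIn F p := by
  haveI := finite_of_le hR.1
  have hsub : (innerFusionSystem R).IsSubsystemOf F := by
    rintro P φ ⟨hP, g, hg, he⟩
    exact F.mem_of_apply_eq (F.conj_mem (hP.trans hR.1) (hR.1 hg)) he
  refine ⟨⟨innerFusionSystem_isSaturated R p (hS.to_le hR.1), hF,
    StrongInvariance.isInvariantIn hF hS hR.stronglyClosed hsub ?_⟩, ?_⟩
  · rintro P Q hPQ hQR φ ⟨-, g, hg, hge⟩ hφQ ψ hψ
    obtain ⟨χ, hχ, hχe, hχR⟩ := hR.2 Q ψ hψ
    let g' : ↥(Q ⊔ R) := ⟨g, Subgroup.mem_sup_right hg⟩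
    have hg' : χ g' ∈ R := hχR.le ⟨g', hg, rfl⟩
    have hle : (P.subgroupOf Q).map ψ ≤ R := by
      rintro _ ⟨x, -, rfl⟩
      exact hR.stronglyClosed.2 Q hQR ψ hψ x
    refine ⟨conjHom _ (χ g'), (innerFusionSystem R).conj_mem hle hg', fun x hx => ?_⟩
    show χ g' * ψ (Subgroup.inclusion hPQ x) * (χ g')⁻¹ = ψ ⟨φ x, hφQ x⟩
    rw [← hχe, ← hχe, ← map_inv, ← map_mul, ← map_mul]
    exact congrArg χ (Subtype.ext (hge x).symm)
  · intro α hα
    rw [autGroup_innerFusionSystem le_rfl] at hα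
    obtain ⟨t, ht, -, hte⟩ := mem_autInducedBy_iff.mp hα
    have hiso : F.IsIso (R ⊔ centralizerIn S R) (R ⊔ centralizerIn S R) (fun x => t * x * t⁻¹) :=
      isIso_conj_normalizer (sup_le hR.1 centralizerIn_le) (hR.1 ht)
        (Subgroup.le_normalizer (Subgroup.mem_sup_left ht))
    obtain ⟨β, hβ, hβe⟩ := hiso.toAut
    refine ⟨β, hβ, fun x => (hβe _).trans (hte x).symm, fun c hc => ?_⟩
    rw [hβe, Subgroup.mem_centralizer_iff.mp hc.2 t ht, mul_inv_cancel_right, inv_mul_cancel]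
    exact Subgroup.one_mem _

/-- A quasisimple system centralises its normal subgroups other than by its centre. -/
theorem core_le_center [Finite S] (hS : IsPGroup p S) (hq : F.Quasisimple p) : F.core ≤ F.center := by
  obtain ⟨hF, hhyp, hsimple⟩ := hq
  have hZc : F.IsCentral F.center := isCentral_center F
  set Z := F.center.subgroupOf S
  set θ := QuotientGroup.mk' Z
  have hker : ∀ s : S, θ s = 1 ↔ (s : Ω) ∈ F.center := fun s => QuotientGroup.eq_one_iff s
  have hsc : F.StronglyClosed F.center := hZc.isNormal.stronglyClosed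
  have hex : ∀ T : Subgroup (S ⧸ Z), θ.range = T → ∃ E : FusionSystem T, F.IsFactorSystem F.center θ E := by
    rintro T rfl
    exact ⟨factorSystem F.center F θ hker hsc, hZc.le, hker, rfl, fun P' φ' => Iff.rfl⟩
  obtain ⟨E, hE⟩ := hex ⊤ (QuotientGroup.range_mk' _)
  obtain ⟨hEsat, hne, hmin⟩ := hsimple E hE
  have hR : F.IsNormal F.core := isNormal_core F
  haveI : Finite (⊤ : Subgroup (S ⧸ Z)) := inferInstance
  have hp : IsPGroup p (⊤ : Subgroup (S ⧸ Z)) := (hS.to_quotient Z).to_subgroup _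
  set R' := imageAlong θ F.core
  have hR'n : E.IsNormal R' := by
    refine ⟨le_top, fun P' φ' hφ' => ?_⟩
    obtain ⟨hP', φ, hφ, hind⟩ := (hE.2.2.2 P' φ').mp hφ'
    obtain ⟨ψ, hψ, hψe, hψR⟩ := hR.2 _ φ hφ
    obtain ⟨ψ', hψ', hXS, hψS, hm, hψ'e⟩ :=
      (Cfsg.Agent.S5134.result p hS F hF F.center hsc θ E hE).1.2 _ ψ hψ
    have hle : P' ⊔ R' ≤ imageAlong θ (preimageAlong θ P' ⊔ F.core) := by
      refine sup_le (fun y hy => ?_) (Subgroup.map_mono (Subgroup.comap_mono le_sup_right))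
      obtain ⟨x, hx, hxS, hxe⟩ := exists_mem_preimageAlong (θ := θ) (hE.2.2.1.symm ▸ hP') (⟨y, hy⟩ : P')
      exact ⟨⟨x, hxS⟩, Subgroup.mem_sup_left hx, hxe⟩
    refine ⟨_, E.restrict_mem hψ' hle, fun y => ?_, ?_⟩
    · obtain ⟨x, hx, hxS, hxe⟩ := exists_mem_preimageAlong (θ := θ) (hE.2.2.1.symm ▸ hP') y
      have h1 : θ ⟨x, hxS⟩ ∈ P' := hxe ▸ y.2
      have hy : y = ⟨θ ⟨x, hxS⟩, h1⟩ := Subtype.ext hxe.symm
      rw [hy, inducedAlong_apply_mem hφ hind ⟨x, hx⟩ h1]
      exact (hψ'e ⟨x, Subgroup.mem_sup_left hx⟩).trans (congrArg θ (Subtype.ext (hψe ⟨x, hx⟩)))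
    · ext y
      constructor
      · rintro ⟨z, hz, rfl⟩
        obtain ⟨s, hs, hse⟩ := hz
        have hs' : (s : Ω) ∈ preimageAlong θ P' ⊔ F.core := Subgroup.mem_sup_right hs
        refine ⟨⟨ψ ⟨s, hs'⟩, hψS _⟩, hψR.le ⟨_, hs, rfl⟩, ?_⟩
        rw [← hψ'e]
        exact congrArg ψ' (Subtype.ext hse)
      · rintro ⟨s, hs, rfl⟩
        obtain ⟨r, hr, hre⟩ := hψR.ge hs
        have hrm : θ ⟨(r : Ω), hXS r.2⟩ ∈ R' := ⟨⟨r, hXS r.2⟩, hr, rfl⟩
        refine ⟨⟨_, Subgroup.mem_sup_right hrm⟩, hrm, ?_⟩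
        exact (hψ'e r).trans (congrArg θ (Subtype.ext hre))
  rcases hmin _ _ (isNormalIn_inner hp hEsat hR'n) with h | ⟨h1, h2⟩
  · intro x hx
    have hmem : θ ⟨x, hR.1 hx⟩ ∈ R' := ⟨⟨x, hR.1 hx⟩, hx, rfl⟩
    rw [h, Subgroup.mem_bot] at hmem
    exact (hker _).mp hmem
  · exfalso
    apply hne
    have hh : E.hyperfocalSubgroup p = ⊥ := by
      rw [eq_bot_iff, ← hyperfocal_inner (S := (⊤ : Subgroup (S ⧸ Z))) (p := p) hp, hyperfocalSubgroup_le_iff]
      intro P hP α hα hαp x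
      refine hyperfocal_gen_mem hP ?_ hαp x
      obtain ⟨φ, hφ, -, hφe⟩ := E.exists_map_of_mem_autGroup hP hα
      refine (innerFusionSystem ⊤).mem_autGroup_of_map (φ := φ) ?_ fun y => (hφe y).symm
      rw [← h2] at hφ
      obtain ⟨hP', g, hg, hge⟩ := hφ
      exact ⟨hP, g, trivial, hge⟩
    rw [← hh, hyperfocalSubgroup_factor hS hF hsc hE, hhyp, Subgroup.subgroupOf_self]
    exact (MonoidHom.range_eq_map θ).symm.trans (QuotientGroup.range_mk' _) |>.symm

omit [Fact p.Prime] in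
/-- A component centralises the core. -/
theorem component_centralizes {C : FusionSystem T} (hCF : C.IsSubnormalIn F p) :
    ∀ [Finite S] [Fact p.Prime], IsPGroup p S → F.IsSaturated p → C.Quasisimple p →
      ∀ P, C.Hom P ⊆ F.centralizerHom F.core P := by
  induction hCF with
  | @refl F p =>
    intro _ _ hS _ hq P φ hφ
    have hZc : F.IsCentral F.center := isCentral_center F
    have hcz := core_le_center hS hq
    have hPS := F.source_le hφ
    have hc : ∀ {x : Ω}, x ∈ T → x ∈ centralizerIn T F.core := fun {x} hx =>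
      ⟨hx, Subgroup.mem_centralizer_iff.mpr fun r hr => (center_le_centralizer F (hcz hr) x hx).symm⟩
    obtain ⟨ψ, hψ, hψe, hψZ⟩ := hZc.2 P φ hφ
    exact ⟨hφ, fun x hx => hc (hPS hx), fun x => hc (F.apply_mem hφ x), _,
      F.restrict_mem hψ (sup_le_sup_left hcz P), fun x => hψe x, fun r => hψZ ⟨r, hcz r.2⟩⟩
  | @step U S C D F p hCD hDF ih =>
    intro _ _ hS hF hq P φ hφ
    obtain ⟨hDs, -, hDi⟩ := hDF.1
    have hU := hDi.2.1
    haveI := finite_of_le hU.1
    have hR : F.IsNormal F.core := isNormal_core F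
    have hR0 := (isNormal_inf hS hR hDs hDi.1 hU).le_core
    have h0 : ∀ Q, C.Hom Q ⊆ D.centralizerHom (F.core ⊓ U) Q := fun Q ψ hψ =>
      centralizerHom_mono hR0 (ih (hS.to_le hU.1) hDs hq Q hψ)
    have hT : T ≤ U := by
      intro x hx
      exact (D.source_le (h0 T (C.id_mem le_rfl)).1) hx
    have hTR : T ≤ Subgroup.centralizer (F.core : Set Ω) :=
      hq.2.1.ge.trans (C.hyperfocalSubgroup_le_focalSubgroup.trans (focal_le_centralizer hS hR hDF h0))
    exact hom_le_centralizerHom hS hR hDF hq.1 hT hTR h0 P hφ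

end Cfsg.FusionSystem.CoreCent
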