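import Cfsg.Agent.Lib.Fusion.SubCent.Extension

/-!
The maps of a subsystem that extend over a normal subgroup acting trivially modulo a given subgroup.
-/

set_option autoImplicit false
set_option linter.unusedSectionVars false
set_option linter.style.haveILetI false

namespace Cfsg.FusionSystem.CoreCent

open Cfsg.FusionSystem.SubCent

universe u

variable {Ω : Type u} [Group Ω] {S T : Subgroup Ω} {F : FusionSystem S} {E : FusionSystem T}
  {P R W V A N M : Subgroup Ω} {f g : Ω → Ω} {p : ℕ}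

/-- `g` preserves `R` and is trivial on it modulo `W`. -/
def TrivMod (R W : Subgroup Ω) (g : Ω → Ω) : Prop := ∀ r ∈ R, g r ∈ R ∧ r⁻¹ * g r ∈ W

/-- Maps with an extension over `R` that is trivial modulo `W`. -/
def HasExt (F : FusionSystem S) (R W : Subgroup Ω) (φ : P →* Ω) : Prop :=
  ∃ (g : Ω → Ω) (Q : Subgroup Ω), F.IsIso (P ⊔ R) Q g ∧ (∀ x : P, φ x = g x) ∧ TrivMod R W g

theorem HasExt.iso [Finite S] {φ : P →* Ω} {Q : Subgroup Ω} (h : F.IsIso (P ⊔ R) Q g)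
    (he : ∀ x : P, φ x = g x) (hg : TrivMod R W g) : F.IsIso (P ⊔ R) (φ.range ⊔ R) g :=
  sup_image h le_sup_left le_sup_right
    (fun _ => ⟨fun ⟨x, hx⟩ => ⟨x, x.2, (he x).symm.trans hx⟩, fun ⟨x, hx, hxy⟩ => ⟨⟨x, hx⟩, (he _).trans hxy⟩⟩)
    (image_self h le_sup_right fun r hr => (hg r hr).1)

/-- The subsystem of maps with such extensions. -/
def stab [Finite S] (E : FusionSystem T) (F : FusionSystem S) (hR : R ≤ S) (W : Subgroup Ω) (hT : T ≤ S)
    (hn : ∀ t ∈ T, TrivMod R W fun r => t * r * t⁻¹) : FusionSystem T where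
  Hom P := {φ | φ ∈ E.Hom P ∧ HasExt F R W φ}
  le_of_mem h := E.le_of_mem h.1
  injective_of_mem h := E.injective_of_mem h.1
  conj_mem := by
    intro P t hP ht
    exact ⟨E.conj_mem hP ht, _, _, isIso_conj (sup_le (hP.trans hT) hR) (hT ht), fun _ => rfl, hn t ht⟩
  comp_mem := by
    rintro P Q φ ψ ⟨hφ, g, _, hg, hge, hgR⟩ ⟨hψ, k, _, hk, hke, hkR⟩ h
    refine ⟨E.comp_mem hφ hψ h, fun x => k (g x), ?_⟩
    have hle : φ.range ≤ Q := by
      rintro _ ⟨x, rfl⟩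
      exact h x
    obtain ⟨Q', hQ', -, -⟩ := hk.restrict (sup_le_sup_right hle R)
    refine ⟨Q', (HasExt.iso hg hge hgR).comp hQ', fun x => ?_, fun r hr => ?_⟩
    · show ψ ⟨φ x, h x⟩ = k (g x)
      rw [hke, ← hge x]
    · have h1 := hgR r hr
      have h2 := hkR _ h1.1
      exact ⟨h2.1, by simpa [mul_assoc] using W.mul_mem h1.2 h2.2⟩
  inv_mem := by
    rintro P φ ⟨hφ, g, _, hg, hge, hgR⟩
    obtain ⟨i, hi, -, hil, -⟩ := E.exists_inv hφ rfl
    have hg' := HasExt.iso hg hge hgR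
    obtain ⟨k, hk, hkl, -⟩ := hg'.symm
    refine ⟨i, ⟨hi, k, _, hk, ?_, fun r hr => ?_⟩, fun x => hil x _⟩
    · rintro ⟨_, x, rfl⟩
      rw [hil x ⟨x, rfl⟩]
      show (x : Ω) = k (φ x)
      rw [hge, hkl _ (Subgroup.mem_sup_left x.2)]
    · obtain ⟨s, hs, rfl⟩ := (image_self hg le_sup_right (fun r hr => (hgR r hr).1) r).mp hr
      rw [hkl s (Subgroup.mem_sup_right hs)]
      exact ⟨hs, by simpa using W.inv_mem (hgR s hs).2⟩

theorem mem_stab_autGroup [Finite S] {hR : R ≤ S} {hT : T ≤ S} {hn : ∀ t ∈ T, TrivMod R W fun r => t * r * t⁻¹}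
    (hP : P ≤ T) {α : MulAut P} (hα : α ∈ E.autGroup P) {Q : Subgroup Ω} (hg : F.IsIso (P ⊔ R) Q g)
    (he : ∀ x : P, ((α x : P) : Ω) = g x) (hgR : TrivMod R W g) :
    α ∈ (stab E F hR W hT hn).autGroup P := by
  obtain ⟨φ, hφ, -, hφe⟩ := E.exists_map_of_mem_autGroup hP hα
  exact (stab E F hR W hT hn).mem_autGroup_of_map (φ := φ)
    ⟨hφ, g, Q, hg, fun x => (hφe x).trans (he x), hgR⟩ fun x => (hφe x).symm

variable [Finite S] [Fact p.Prime]

/-- An iterate of order prime to `p` agreeing on a part where the period is prime to `p`. -/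
theorem exists_iterate_pprime (h : F.IsIso V V f) {m : ℕ} (hm : ¬ p ∣ m)
    (hper : ∀ x ∈ A, f^[m] x = x) :
    ∃ k : ℕ, (∀ x ∈ A, f^[k] x = f x) ∧ ∃ n : ℕ, ¬ p ∣ n ∧ ∀ x ∈ V, (f^[k])^[n] x = x := by
  obtain ⟨α, hα, he⟩ := h.toAut
  haveI := finite_mulAut_of_le h.le_left
  obtain ⟨e, hord⟩ := prime_part (p := p) α
  have hpp := (Fact.out : p.Prime)
  obtain ⟨r, hr⟩ : ∃ r : ℕ, p ^ e * r ≡ 1 [MOD m] := by
    rcases eq_or_ne m 1 with rfl | hm1
    · exact ⟨0, Nat.modEq_one⟩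
    have hm0 : m ≠ 0 := fun e => hm (e ▸ dvd_zero p)
    obtain ⟨r, -, hr⟩ := Nat.exists_mul_mod_eq_one_of_coprime
      (Nat.Coprime.pow_left e ((Nat.Prime.coprime_iff_not_dvd hpp).mpr hm)) (by omega)
    exact ⟨r, by rw [Nat.ModEq, hr, Nat.one_mod_eq_one.mpr hm1]⟩
  refine ⟨p ^ e * r, fun x hx => ?_, orderOf (α ^ p ^ e), hord, fun x hx => ?_⟩
  · have hper' : ∀ j : ℕ, ∀ y ∈ A, f^[m * j] y = y := by
      intro j
      induction j with
      | zero => intro y _; rfl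
      | succ j ih =>
        intro y hy
        rw [Nat.mul_succ, Function.iterate_add_apply, hper y hy, ih y hy]
    rw [← Nat.mod_add_div (p ^ e * r) m, Function.iterate_add_apply, hper' _ x hx, hr]
    rcases eq_or_ne m 1 with rfl | hm1
    · simpa using (hper x hx).symm
    · rw [Nat.one_mod_eq_one.mpr hm1]; rfl
  · rw [← Function.iterate_mul, ← coe_pow_apply he _ ⟨x, hx⟩]
    have : α ^ (p ^ e * r * orderOf (α ^ p ^ e)) = 1 := by
      rw [mul_right_comm, pow_mul, pow_mul, pow_orderOf_eq_one, one_pow]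
    rw [this]
    rfl

/-- The coprime step: an automorphism of order prime to `p` moving `r` inside `N`, where it acts on `N`
trivially modulo `M`, moves `r` inside `M`. -/
theorem mem_of_coprime_step (hS : IsPGroup p S) (h : F.IsIso V V g) {n : ℕ} (hn : ¬ p ∣ n) {r : Ω}
    (hr : r ∈ V) (hper : g^[n] r = r) (hN : N ≤ V) (hMN : M ≤ N) (hM : ∀ x ∈ M, g x ∈ M)
    (htriv : ∀ x ∈ N, x⁻¹ * g x ∈ M) (hd : r⁻¹ * g r ∈ N) : r⁻¹ * g r ∈ M := by
  let d := r⁻¹ * g r
  have key : ∀ k : ℕ, ∃ μ ∈ M, g^[k] r = r * d ^ k * μ := by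
    intro k
    induction k with
    | zero => exact ⟨1, M.one_mem, by simp⟩
    | succ k ih =>
      obtain ⟨μ, hμ, e⟩ := ih
      have hdk : d ^ k ∈ N := N.pow_mem hd k
      refine ⟨(d ^ k)⁻¹ * g (d ^ k) * g μ, M.mul_mem (htriv _ hdk) (hM μ hμ), ?_⟩
      rw [Function.iterate_succ_apply', e, h.apply_mul (V.mul_mem hr (hN hdk)) (hN (hMN hμ)),
        h.apply_mul hr (hN hdk), show g r = r * d from (mul_inv_cancel_left r (g r)).symm, pow_succ']
      group
  obtain ⟨μ, hμ, e⟩ := key n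
  rw [hper, mul_assoc, eq_comm, mul_eq_left] at e
  have hdn : d ^ n ∈ M := by
    rw [eq_inv_of_mul_eq_one_left e]
    exact M.inv_mem hμ
  have hdS : d ∈ S := h.le_left (hN hd)
  obtain ⟨a, ha⟩ := hS ⟨d, hdS⟩
  have ha' : d ^ p ^ a = 1 := congrArg Subtype.val ha
  rcases eq_or_ne (p ^ a) 1 with h1 | h1
  · rw [h1, pow_one] at ha'
    show d ∈ M
    rw [ha']
    exact M.one_mem
  have hpp := (Fact.out : p.Prime)
  obtain ⟨t, -, ht⟩ := Nat.exists_mul_mod_eq_one_of_coprime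
    (Nat.Coprime.pow_right a ((Nat.Prime.coprime_iff_not_dvd hpp).mpr hn).symm)
    (by have := pow_pos hpp.pos a; omega)
  have : d = (d ^ n) ^ t := by
    rw [← pow_mul, ← Nat.mod_add_div (n * t) (p ^ a), ht, pow_add, pow_mul, ha', one_pow, mul_one, pow_one]
  show d ∈ M
  rw [this]
  exact M.pow_mem hdn t

end Cfsg.FusionSystem.CoreCent
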