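import Cfsg.Agent.Lib.Fusion.CoreCent.Stab

/-!
A normal subsystem over `U` acts trivially on a normal subgroup `R` modulo `R ∩ U`.
-/

set_option autoImplicit false
set_option linter.unusedSectionVars false
set_option linter.style.haveILetI false

namespace Cfsg.FusionSystem.CoreCent

open Cfsg.FusionSystem.SubCent

universe u

variable {Ω : Type u} [Group Ω] {S T : Subgroup Ω} {F : FusionSystem S} {E : FusionSystem T}
  {P R : Subgroup Ω} {p : ℕ} [Finite S] [Fact p.Prime]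

theorem conj_trivMod (hR : F.IsNormal R) (hT : F.StronglyClosed T) :
    ∀ t ∈ T, TrivMod R T fun r => t * r * t⁻¹ := by
  intro t ht r hr
  refine ⟨(Subgroup.mem_normalizer_iff.mp (hR.le_normalizer (hT.1 ht)) r).mp hr, ?_⟩
  have h1 : r⁻¹ * t * r ∈ T :=
    (Subgroup.mem_normalizer_iff''.mp (hT.le_normalizer (hR.1 hr)) t).mp ht
  simpa [mul_assoc] using T.mul_mem h1 (T.inv_mem ht)

/-- The maps of `E` extending over `R` trivially modulo `T`. -/
abbrev modSys (hR : F.IsNormal R) (hE : E.IsNormalIn F p) : FusionSystem T :=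
  stab E F hR.1 T hE.1.2.2.2.1.1 (conj_trivMod hR hE.1.2.2.2.1)

/-- The top: an automorphism of order prime to `p` of `T`. -/
theorem top_mem_modSys (hS : IsPGroup p S) (hR : F.IsNormal R) (hE : E.IsNormalIn F p)
    {α : MulAut T} (hα : α ∈ E.autGroup T) (hord : ¬ p ∣ orderOf α) :
    α ∈ (modSys hR hE).autGroup T := by
  obtain ⟨hEs, hF, hEi⟩ := id hE.1
  have hT := hEi.2.1
  haveI := finite_of_le hT.1
  haveI := finite_mulAut_of_le hT.1
  obtain ⟨f, hf, hfe⟩ := autGroup_le_liftable hE hα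
  obtain ⟨g, hg, hgf, m, hm, hper⟩ := hf.exists_pprime hord fun x hx => by
    rw [← coe_pow_apply hfe (orderOf α) ⟨x, hx⟩, pow_orderOf_eq_one]; rfl
  have hgα : ∀ x : T, ((α x : T) : Ω) = g x := fun x => (hfe x).trans (hgf x x.2).symm
  set W := T ⊔ centralizerIn S T with hWdef
  obtain ⟨φg, hφg, -, hge⟩ := id hg.iso
  obtain ⟨ψ, hψ, hψe, hψR⟩ := hR.2 W φg hφg
  have hW : ∀ x ∈ W, funOf ψ x = g x := fun x hx =>
    ((funOf_apply ψ (Subgroup.inclusion le_sup_left ⟨x, hx⟩)).symm.trans (hψe ⟨x, hx⟩)).trans (hge ⟨x, hx⟩)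
  have hRR : ∀ x ∈ R, funOf ψ x ∈ R := fun x hx => by
    rw [← funOf_apply ψ ⟨x, Subgroup.mem_sup_right hx⟩]
    exact hψR.le ⟨_, hx, rfl⟩
  have hG : F.IsIso (W ⊔ R) (W ⊔ R) (funOf ψ) :=
    sup_image (isIso_funOf hψ) le_sup_left le_sup_right
      (image_self (isIso_funOf hψ) le_sup_left fun x hx => by rw [hW x hx]; exact hg.iso.mem hx)
      (image_self (isIso_funOf hψ) le_sup_right hRR)
  have hit : ∀ (j : ℕ), ∀ x ∈ W, (funOf ψ)^[j] x = g^[j] x := by
    intro j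
    induction j with
    | zero => intro x _; rfl
    | succ j ih =>
      intro x hx
      rw [Function.iterate_succ_apply', Function.iterate_succ_apply', ih x hx,
        hW _ ((iterate_isIso hg.iso j).mem hx)]
  obtain ⟨k, hkW, n, hn, hkper⟩ := exists_iterate_pprime (p := p) hG (A := W) hm
    fun x hx => by rw [hit m x hx]; exact hper x hx
  obtain ⟨G, hGk⟩ : ∃ G : Ω → Ω, G = (funOf ψ)^[k] := ⟨_, rfl⟩
  have hGiso : F.IsIso (W ⊔ R) (W ⊔ R) G := hGk ▸ iterate_isIso hG k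
  have hGW : ∀ x ∈ W, G x = g x := fun x hx => by rw [hGk, hkW x hx, hW x hx]
  have hGR : ∀ x ∈ R, G x ∈ R := by
    intro x hx
    rw [hGk]
    exact (iterate_isIso (isIso_self hG le_sup_right hRR) k).mem hx
  have hTW : T ≤ W := le_sup_left
  have hWV : W ≤ W ⊔ R := le_sup_left
  have hGT : ∀ x ∈ T, G x ∈ T := fun x hx => by rw [hGW x (hTW hx)]; exact hg.pres x hx
  -- `G` is trivial on `W` modulo `T`
  have hWmod : ∀ x ∈ W, x⁻¹ * G x ∈ T := by
    intro x hx
    have hx' : x ∈ (↑(T ⊔ centralizerIn S T) : Set Ω) := hx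
    rw [Subgroup.coe_mul_of_right_le_normalizer_left T (centralizerIn S T)
      (centralizerIn_le.trans hT.le_normalizer)] at hx'
    obtain ⟨u, hu, c, hc, rfl⟩ := hx'
    have hcW : c ∈ W := Subgroup.mem_sup_right hc
    have hc' := hg.triv c hc
    rw [hGW _ hx, hg.iso.apply_mul (hTW hu) hcW]
    have h1 : c⁻¹ * (u⁻¹ * g u) * c ∈ T :=
      (Subgroup.mem_normalizer_iff''.mp (hT.le_normalizer (centralizerIn_le hc)) _).mp
        (T.mul_mem (T.inv_mem hu) (hg.pres u hu))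
    simpa [mul_assoc] using T.mul_mem h1 hc'
  -- the key: `r⁻¹ G r ∈ W`
  have hkey : ∀ r ∈ R, r⁻¹ * G r ∈ W := by
    intro r hr
    have hrS : r ∈ S := hR.1 hr
    have hrn : r ∈ Subgroup.normalizer (T : Set Ω) := hT.le_normalizer hrS
    have hdS : r⁻¹ * G r ∈ S := S.mul_mem (S.inv_mem hrS) (hR.1 (hGR r hr))
    obtain ⟨φ, hφ, hφr, hφe⟩ := E.exists_map_of_mem_autGroup le_rfl hα
    have hEg : E.IsIso T T g := ⟨φ, hφ, hφr, fun x => (hφe x).trans (hgα x)⟩
    have hcr : F.IsIso T T (fun x => r⁻¹ * x * r) :=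
      (isIso_conj_normalizer hT.1 (S.inv_mem hrS) (Subgroup.inv_mem _ hrn)).congr fun x _ => by
        rw [inv_inv]
    obtain ⟨f', hf', hf'e⟩ := hEi.iso_transport hcr le_rfl hEg le_rfl le_rfl (P' := T) (Q' := T)
      (image_self hcr le_rfl fun x hx => hcr.mem hx) (image_self hcr le_rfl fun x hx => hcr.mem hx)
    obtain ⟨β, hβ, hβe⟩ := hf'.toAut
    let γ : MulAut T := β * α⁻¹
    have hγ : γ ∈ E.autGroup T := (E.autGroup T).mul_mem hβ ((E.autGroup T).inv_mem hα)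
    have hγe : ∀ x : T, ((γ x : T) : Ω) = (r⁻¹ * G r) * x * (r⁻¹ * G r)⁻¹ := by
      intro x
      let v : T := α⁻¹ x
      have hxv : (x : Ω) = g v := by rw [← hgα v]; simp [v]
      have hv' : r * (v : Ω) * r⁻¹ ∈ T := (Subgroup.mem_normalizer_iff.mp hrn _).mp v.2
      have h1 := hf'e (r * (v : Ω) * r⁻¹) hv'
      rw [show r⁻¹ * (r * (v : Ω) * r⁻¹) * r = (v : Ω) by group, ← hGW _ (hTW hv'),
        hGiso.apply_conj (Subgroup.mem_sup_right hr) (hWV (hTW v.2)), hGW _ (hTW v.2), ← hxv] at h1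
      show ((β v : T) : Ω) = _
      rw [hβe, h1]
      group
    obtain ⟨-, U, hU⟩ : E.IsFullyAutomized p T :=
      hEs.isFullyAutomized_of_isFullyNormalized (hS.to_le hT.1) isFullyNormalized_self
    haveI := finite_autGroup (F := E) (le_refl T)
    let Z : Subgroup (E.autGroup T) := (autInducedBy S T).subgroupOf (E.autGroup T)
    have hZp : IsPGroup p Z :=
      (isPGroup_autInducedBy hS).comap_of_injective _ (E.autGroup T).subtype_injective
    have hUZ : (U : Subgroup (E.autGroup T)) ≤ Z := by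
      rw [hU]
      exact fun a ha => autInducedBy_mono hT.1 ha
    have hγZ : (⟨γ, hγ⟩ : E.autGroup T) ∈ Z :=
      mem_autInducedBy_iff.mpr ⟨r⁻¹ * G r, hdS, hT.le_normalizer hdS, hγe⟩
    have hγT : γ ∈ autInducedBy T T :=
      Subgroup.mem_subgroupOf.mp (hU.le ((U.3 hZp hUZ).le hγZ))
    obtain ⟨u, hu, -, hue⟩ := mem_autInducedBy_iff.mp hγT
    have hc : u⁻¹ * (r⁻¹ * G r) ∈ centralizerIn S T := by
      refine ⟨S.mul_mem (S.inv_mem (hT.1 hu)) hdS, Subgroup.mem_centralizer_iff.mpr fun y hy => ?_⟩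
      have h1 : (r⁻¹ * G r) * y * (r⁻¹ * G r)⁻¹ = u * y * u⁻¹ := (hγe ⟨y, hy⟩).symm.trans (hue ⟨y, hy⟩)
      calc y * (u⁻¹ * (r⁻¹ * G r)) = u⁻¹ * (u * y * u⁻¹) * (r⁻¹ * G r) := by group
        _ = u⁻¹ * (r⁻¹ * G r) * y := by rw [← h1]; group
    simpa [mul_assoc] using W.mul_mem (hTW hu) (Subgroup.mem_sup_right hc : _ ∈ W)
  -- coprime step
  have hmod : ∀ r ∈ R, r⁻¹ * G r ∈ R ⊓ T := by
    intro r hr
    refine mem_of_coprime_step hS hGiso hn (Subgroup.mem_sup_right hr) ?_ (N := R ⊓ W)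
      (inf_le_left.trans le_sup_right) (inf_le_inf_left R hTW) (fun x hx => ⟨hGR x hx.1, hGT x hx.2⟩)
      (fun x hx => ⟨R.mul_mem (R.inv_mem hx.1) (hGR x hx.1), hWmod x hx.2⟩)
      ⟨R.mul_mem (R.inv_mem hr) (hGR r hr), hkey r hr⟩
    rw [hGk]
    exact hkper r (Subgroup.mem_sup_right hr)
  obtain ⟨Q, hQ, -, -⟩ := hGiso.restrict (sup_le_sup_right hTW R)
  exact mem_stab_autGroup le_rfl hα hQ (fun x => (hgα x).trans (hGW x (hTW x.2)).symm)
    fun r hr => ⟨hGR r hr, (hmod r hr).2⟩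

/-- **A normal subsystem acts trivially on a normal subgroup modulo the intersection.** -/
theorem hom_le_modSys (hS : IsPGroup p S) (hR : F.IsNormal R) (hE : E.IsNormalIn F p) :
    E ≤ modSys hR hE := by
  obtain ⟨hEs, hF, hEi⟩ := id hE.1
  have hT := hEi.2.1
  haveI := finite_of_le hT.1
  have hTp : IsPGroup p T := hS.to_le hT.1
  set K := modSys hR hE with hKdef
  refine hEs.le_of_autGroup_le' hTp K fun P hP hbig => ?_
  have hPT : P ≤ T := by
    rcases hP with rfl | hP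
    · exact le_rfl
    · exact hP.1.1
  have hEn : E.IsFullyNormalized P := by
    rcases hP with rfl | hP
    · exact isFullyNormalized_self
    · exact hP.2.1
  haveI := finite_autGroup (F := E) hPT
  set G := E.autGroup P with hGdef
  obtain ⟨-, U, hU⟩ : E.IsFullyAutomized p P := hEs.isFullyAutomized_of_isFullyNormalized hTp hEn
  let KK : Subgroup G := (K.autGroup P).subgroupOf G
  have hUK : (U : Subgroup G) ≤ KK := by
    rw [hU]
    exact fun a ha => K.autInducedBy_le_autGroup hPT ha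
  suffices htop : KK = ⊤ by exact Subgroup.subgroupOf_eq_top.mp htop
  rcases eq_or_lt_of_le hPT with hPeq | hlt
  · subst hPeq
    refine eq_top_of_sylow_of_pprime KK U hUK fun a ha => ?_
    exact top_mem_modSys hS hR hE a.2 (by rw [← Subgroup.orderOf_coe] at ha; exact ha)
  have hRT : F.StronglyClosed (R ⊓ T) := ⟨inf_le_left.trans hR.1, fun X hX φ hφ x =>
    ⟨hR.stronglyClosed.2 X (hX.trans inf_le_left) φ hφ x, hT.2 X (hX.trans inf_le_right) φ hφ x⟩⟩
  have hKn : KK.Normal := by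
    refine ⟨fun a ha b => ?_⟩
    obtain ⟨φa, hφa, hra, hφae⟩ := K.exists_map_of_mem_autGroup hPT ha
    obtain ⟨-, g, Q, hg, hge, hgR⟩ := hφa
    have hga : F.IsIso (P ⊔ R) (P ⊔ R) g := by
      have := HasExt.iso hg hge hgR
      rwa [hra] at this
    obtain ⟨φb, hφb, hrb, hφbe⟩ := E.exists_map_of_mem_autGroup hPT b.2
    obtain ⟨ψ, hψ, hψe, hψR⟩ := hR.2 P φb (hEi.1 P hφb)
    have hbP : ∀ (x : Ω) (hx : x ∈ P), funOf ψ x = (((b : MulAut P) ⟨x, hx⟩ : P) : Ω) := fun x hx => by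
      rw [← hφbe, ← hψe]
      exact (funOf_apply ψ (Subgroup.inclusion le_sup_left ⟨x, hx⟩)).symm
    have hbR : ∀ x ∈ R, funOf ψ x ∈ R := fun x hx => by
      rw [← funOf_apply ψ ⟨x, Subgroup.mem_sup_right hx⟩]
      exact hψR.le ⟨_, hx, rfl⟩
    have hh : F.IsIso (P ⊔ R) (P ⊔ R) (funOf ψ) :=
      sup_image (isIso_funOf hψ) le_sup_left le_sup_right
        (image_self (isIso_funOf hψ) le_sup_left fun x hx => by rw [hbP x hx]; exact SetLike.coe_mem _)
        (image_self (isIso_funOf hψ) le_sup_right hbR)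
    obtain ⟨h', hh', hl, -⟩ := hh.symm
    refine mem_stab_autGroup hPT (b * a * b⁻¹ : G).2 ((hh'.comp hga).comp hh) (fun x => ?_) fun r hr => ?_
    · let y : P := (b : MulAut P)⁻¹ x
      have hy : (x : Ω) = funOf ψ y := by rw [hbP y y.2]; simp [y]
      have e1 : h' x = y := by rw [hy, hl _ (Subgroup.mem_sup_left y.2)]
      show (((b : MulAut P) ((a : MulAut P) y) : P) : Ω) = funOf ψ (g (h' x))
      rw [e1, ← hge y, hφae, hbP _ (SetLike.coe_mem _)]
      rfl
    · obtain ⟨s, hs, rfl⟩ := (image_self hh le_sup_right hbR r).mp hr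
      rw [hl s (Subgroup.mem_sup_right hs)]
      have h1 := hgR s hs
      have h2 : s⁻¹ * g s ∈ R ⊓ T := ⟨R.mul_mem (R.inv_mem hs) h1.1, h1.2⟩
      obtain ⟨X, hX, -, -⟩ := hh.restrict (inf_le_left.trans le_sup_right : R ⊓ T ≤ P ⊔ R)
      obtain ⟨φX, hφX, -, hφXe⟩ := hX
      have h3 : funOf ψ (s⁻¹ * g s) ∈ R ⊓ T := hφXe ⟨_, h2⟩ ▸ hRT.2 _ le_rfl φX hφX ⟨_, h2⟩
      rw [hh.apply_mul (Subgroup.inv_mem _ (Subgroup.mem_sup_right hs)) (Subgroup.mem_sup_right h1.1),
        hh.apply_inv (Subgroup.mem_sup_right hs)] at h3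
      exact ⟨hbR _ h1.1, h3.2⟩
  have hO : Subgroup.normalClosure ((U : Subgroup G) : Set G) ≤ KK :=
    haveI := hKn
    Subgroup.normalClosure_le_normal hUK
  have hUO : (U : Subgroup G) ≤ Subgroup.normalClosure ((U : Subgroup G) : Set G) :=
    fun a ha => Subgroup.subset_normalClosure ha
  have htop := (U.subtype hUO).normalizer_sup_eq_top
  rw [Sylow.coe_subtype, Subgroup.map_subgroupOf_eq_of_le hUO] at htop
  rw [eq_top_iff, ← htop]
  refine sup_le (fun n hn => ?_) hO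
  obtain ⟨ψ, hψ, hψe⟩ := exists_extension_of_normalizes (γ := (n : MulAut P)) (M := normalizerIn T P)
    (hEs.isReceptive_of_isFullyNormalized hTp hEn) n.2 le_rfl (by
      intro t ht htn
      let c : G := ⟨P.normalizerMonoidHom ⟨t, htn⟩,
        autInducedBy_le_autGroup hPT (mem_autInducedBy_iff.mpr ⟨t, ht.1, htn, fun _ => rfl⟩)⟩
      have hc : c ∈ (U : Subgroup G) :=
        hU.ge (mem_autInducedBy_iff.mpr ⟨t, ht.1, htn, fun _ => rfl⟩ : (c : MulAut P) ∈ autInducedBy T P)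
      exact hU.le ((Subgroup.mem_normalizer_iff.mp hn c).mp hc))
  haveI := finite_of_le (sup_le hPT normalizerIn_le : P ⊔ normalizerIn T P ≤ T)
  have hcard : Nat.card P < Nat.card ↥(P ⊔ normalizerIn T P) :=
    card_lt_of_lt (lt_of_lt_of_le (lt_normalizerIn hTp hlt) le_sup_right)
  exact K.mem_autGroup_of_map (K.restrict_mem (hbig _ hcard hψ) le_sup_left) fun x => (hψe x).symm

end Cfsg.FusionSystem.CoreCent
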