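import Cfsg.Agent.Lib.Fusion.CoreCent.Action
import Cfsg.Agent.Lib.Fusion.Inner
import Cfsg.Agent.Lib.Fusion.Invariant
import Cfsg.Agent.Lib.Fusion.Factor
import Cfsg.Agent.Lib.Fusion.HyperfocalFactor
import Cfsg.Agent.Lib.Fusion.Center
import Cfsg.Agent.S5134

/-!
Components centralise the core, and the centraliser system of a normal subgroup is normal.
-/

set_option autoImplicit false
set_option linter.unusedSectionVars false
set_option linter.style.haveILetI false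

namespace Cfsg.FusionSystem.CoreCent

open Cfsg.FusionSystem.SubCent

universe u

variable {Ω : Type u} [Group Ω] {S T U : Subgroup Ω} {F : FusionSystem S} {C : FusionSystem T}
  {D : FusionSystem U} {P R : Subgroup Ω} {p : ℕ} [Finite S] [Fact p.Prime]

/-- The centraliser system of a normal subgroup is normal. -/
theorem isNormalIn_centralizerSystem (hS : IsPGroup p S) (hF : F.IsSaturated p) (hR : F.IsNormal R) :
    (F.centralizerSystem R hR.1).IsNormalIn F p := by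
  set C0 := centralizerIn S R with hC0
  set K := F.centralizerSystem R hR.1 with hK
  have hRf := hF.isFullyCentralized_of_isFullyNormalized hS (isFullyNormalized_of_stronglyClosed hR.stronglyClosed)
  have hK' : K.IsSaturated p := hF.isSaturated_centralizerSystem hS hRf (fun _ => rfl)
  have hext : ∀ {Q : Subgroup Ω} {φ : Q →* Ω}, φ ∈ F.Hom Q → ∃ g, F.IsIso (Q ⊔ R) (φ.range ⊔ R) g ∧
      (∀ x : Q, φ x = g x) ∧ ∀ r ∈ R, g r ∈ R := by
    intro Q φ hφ
    obtain ⟨ψ, hψ, hψe, hψR⟩ := hR.2 Q φ hφ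
    have hRR : ∀ r ∈ R, funOf ψ r ∈ R := fun r hr => by
      rw [← funOf_apply ψ ⟨r, Subgroup.mem_sup_right hr⟩]
      exact hψR.le ⟨_, hr, rfl⟩
    have he : ∀ x : Q, φ x = funOf ψ x := fun x =>
      (hψe x).symm.trans (funOf_apply ψ (Subgroup.inclusion le_sup_left x))
    refine ⟨funOf ψ, sup_image (isIso_funOf hψ) le_sup_left le_sup_right (fun y => ?_)
      (image_self (isIso_funOf hψ) le_sup_right hRR), he, hRR⟩
    exact ⟨fun ⟨x, hx⟩ => ⟨x, x.2, (he x).symm.trans hx⟩, fun ⟨x, hx, hxy⟩ => ⟨⟨x, hx⟩, (he _).trans hxy⟩⟩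
  have hCT : F.StronglyClosed C0 := by
    refine ⟨centralizerIn_le, fun Q hQ φ hφ x => ⟨F.apply_mem hφ x, Subgroup.mem_centralizer_iff.mpr fun r hr => ?_⟩⟩
    obtain ⟨g, hg, hge, hgR⟩ := hext hφ
    obtain ⟨s, hs, rfl⟩ := (image_self hg le_sup_right hgR r).mp hr
    rw [hge, ← hg.apply_mul (Subgroup.mem_sup_right hs) (Subgroup.mem_sup_left x.2),
      ← hg.apply_mul (Subgroup.mem_sup_left x.2) (Subgroup.mem_sup_right hs),
      Subgroup.mem_centralizer_iff.mp (hQ x.2).2 s hs]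
  have hsub : K.IsSubsystemOf F := fun Q φ h => h.1
  refine ⟨⟨hK', hF, StrongInvariance.isInvariantIn hF hS hCT hsub ?_⟩, ?_⟩
  · intro Q V hQV hV φ hφ hφV ψ hψ
    obtain ⟨hφF, -, -, χ, hχ, hχe, hχR⟩ := hφ
    obtain ⟨g, hg, hge, hgR⟩ := hext hψ
    have hfQ : ∀ x : Q, funOf χ x = φ x := fun x =>
      (funOf_apply χ (Subgroup.inclusion le_sup_left x)).symm.trans (hχe x)
    have hfR : ∀ r ∈ R, funOf χ r = r := fun r hr =>
      (funOf_apply χ (Subgroup.inclusion le_sup_right ⟨r, hr⟩)).symm.trans (hχR ⟨r, hr⟩)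
    obtain ⟨Q₁, hQ₁, -, hQ₁m⟩ := hg.restrict (sup_le_sup_right hQV R)
    obtain ⟨k, hk, hkl, -⟩ := hQ₁.symm
    obtain ⟨X, hX, hXV⟩ : ∃ X, F.IsIso (Q ⊔ R) X (funOf χ) ∧ X ≤ V ⊔ R := by
      refine ⟨φ.range ⊔ R, HasExt.iso (W := ⊤) (isIso_funOf hχ) (fun x => (hfQ x).symm)
        (fun r hr => ⟨(hfR r hr).symm ▸ hr, Subgroup.mem_top _⟩), sup_le_sup_right ?_ R⟩
      rintro _ ⟨x, rfl⟩
      exact hφV x
    obtain ⟨X', hX', -, -⟩ := hg.restrict hXV
    have htot := (hk.comp hX).comp hX'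
    set Q' := (Q.subgroupOf V).map ψ with hQ'
    have hQ'le : Q' ≤ Q₁ := by
      rintro _ ⟨x, hx, rfl⟩
      exact (hQ₁m _).mpr ⟨x, Subgroup.mem_sup_left hx, (hge x).symm⟩
    have hRQ₁ : R ≤ Q₁ := fun r hr => by
      obtain ⟨s, hs, rfl⟩ := (image_self hg le_sup_right hgR r).mp hr
      exact (hQ₁m _).mpr ⟨s, Subgroup.mem_sup_right hs, rfl⟩
    obtain ⟨Y, ⟨τ, hτ, -, hτe⟩, -, -⟩ := htot.restrict (sup_le hQ'le hRQ₁)
    have hQ'C : Q' ≤ C0 := by
      rintro _ ⟨x, -, rfl⟩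
      exact hCT.2 V hV ψ hψ x
    have hval : ∀ x : Q, g (funOf χ (k (ψ (Subgroup.inclusion hQV x)))) = ψ ⟨φ x, hφV x⟩ := fun x => by
      rw [hge (Subgroup.inclusion hQV x)]
      show g (funOf χ (k (g x))) = _
      rw [hkl x (Subgroup.mem_sup_left x.2), hfQ x, hge]
    let χ' : Q' →* Ω := τ.comp (Subgroup.inclusion le_sup_left)
    have hχ'F : χ' ∈ F.Hom Q' := F.restrict_mem hτ _
    have hχ'e : ∀ z : Q', χ' z = g (funOf χ (k z)) := fun z => hτe _
    refine ⟨χ', ⟨hχ'F, hQ'C, fun z => ?_, τ, hτ, fun z => rfl, fun r => ?_⟩, fun x hx => (hχ'e _).trans (hval x)⟩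
    · obtain ⟨⟨x, hxV⟩, hxQ, hxz⟩ := z.2
      rw [hχ'e, ← hxz]
      show g (funOf χ (k (ψ (Subgroup.inclusion hQV ⟨x, hxQ⟩)))) ∈ C0
      rw [hval ⟨x, hxQ⟩]
      exact hCT.2 V hV ψ hψ _
    · rw [hτe]
      show g (funOf χ (k r)) = (r : Ω)
      obtain ⟨s, hs, hsr⟩ := (image_self hg le_sup_right hgR (r : Ω)).mp r.2
      rw [← hsr, hkl s (Subgroup.mem_sup_right hs), hfR s hs]
  · intro α hα
    set W := C0 ⊔ R with hW
    set M := centralizerIn S C0 with hM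
    obtain ⟨φ, ⟨hφ, -, -, χ, hχ, hχe, hχR⟩, hφr, hφe⟩ := K.exists_map_of_mem_autGroup le_rfl hα
    have hWS : W ≤ S := sup_le hCT.1 hR.1
    have hfC : ∀ x : C0, funOf χ x = ((α x : C0) : Ω) := fun x =>
      ((funOf_apply χ (Subgroup.inclusion le_sup_left x)).symm.trans (hχe x)).trans (hφe x)
    have hfR : ∀ r ∈ R, funOf χ r = r := fun r hr =>
      (funOf_apply χ (Subgroup.inclusion le_sup_right ⟨r, hr⟩)).symm.trans (hχR ⟨r, hr⟩)
    have hfW : F.IsIso W W (funOf χ) :=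
      sup_image (isIso_funOf hχ) le_sup_left le_sup_right
        (image_self (isIso_funOf hχ) le_sup_left fun x hx => by rw [hfC ⟨x, hx⟩]; exact SetLike.coe_mem _)
        (image_self (isIso_funOf hχ) le_sup_right fun r hr => by rw [hfR r hr]; exact hr)
    have hWmap : ∀ {Q : Subgroup Ω} {f : Ω → Ω}, F.IsIso W Q f → Q = W := by
      intro Q f hf
      have h1 : ∀ {X : Subgroup Ω}, F.StronglyClosed X → X ≤ W → ∀ x ∈ X, f x ∈ X := by
        intro X hX hXW x hx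
        obtain ⟨X', ⟨φ', hφ', -, hφ'e⟩, -, -⟩ := hf.restrict hXW
        exact hφ'e ⟨x, hx⟩ ▸ hX.2 X le_rfl φ' hφ' ⟨x, hx⟩
      obtain ⟨Q', hQ', hQ'le, hQ'm⟩ := hf.restrict (le_refl W)
      have h2 := sup_image hf le_sup_left le_sup_right
        (image_self hf le_sup_left (h1 hCT le_sup_left))
        (image_self hf le_sup_right (h1 hR.stronglyClosed le_sup_right))
      ext y
      exact ⟨fun hy => by obtain ⟨x, hx, rfl⟩ := hf.surj hy; exact h2.mem hx,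
        fun hy => by obtain ⟨x, hx, rfl⟩ := h2.surj hy; exact hf.mem hx⟩
    have hWc : F.IsCentric W := by
      refine ⟨hWS, fun Q hQ => ?_⟩
      obtain ⟨φ', hφ', hr'⟩ := hQ
      have hi : F.IsIso W Q (funOf φ') := hr' ▸ isIso_funOf hφ'
      rw [hWmap hi]
      exact fun x hx => Subgroup.mem_sup_left (⟨hx.1, Subgroup.centralizer_le (le_sup_right : R ≤ W) hx.2⟩ : x ∈ C0)
    have hWn : F.IsFullyNormalized W := by
      refine ⟨hWS, fun Q hQ => ?_⟩
      obtain ⟨φ', hφ', hr'⟩ := hQ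
      have hi : F.IsIso W Q (funOf φ') := hr' ▸ isIso_funOf hφ'
      rw [hWmap hi]
    have hnS : S ≤ Subgroup.normalizer (W : Set Ω) :=
      le_trans (le_inf hCT.le_normalizer hR.le_normalizer) (Subgroup.normalizer_inf_normalizer_le_normalizer_sup _ _)
    let N := W ⊔ M
    have hNS : N ≤ S := sup_le hWS centralizerIn_le
    have hN : ∀ n ∈ N, ∃ k ∈ S, ∀ x ∈ W, funOf χ (n * x * n⁻¹) = k * funOf χ x * k⁻¹ := by
      intro n hn
      have hn' : n ∈ (↑(W ⊔ M) : Set Ω) := hn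
      rw [Subgroup.coe_mul_of_right_le_normalizer_left W M (centralizerIn_le.trans hnS)] at hn'
      obtain ⟨w, hw, m, hm, rfl⟩ := hn'
      refine ⟨funOf χ w * m, S.mul_mem (hWS (hfW.mem hw)) hm.1, fun x hx => ?_⟩
      have hmx : m * x * m⁻¹ ∈ W := (Subgroup.mem_normalizer_iff.mp (hnS hm.1) x).mp hx
      have key : funOf χ (m * x * m⁻¹) = m * funOf χ x * m⁻¹ := by
        -- both sides are homomorphisms in `x` agreeing on `C0` and `R`
        let Eq : Subgroup Ω :=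
          { carrier := {z | z ∈ W ∧ funOf χ (m * z * m⁻¹) = m * funOf χ z * m⁻¹}
            one_mem' := ⟨W.one_mem, by simp [hfW.apply_one]⟩
            mul_mem' := fun {a b} ha hb => ⟨W.mul_mem ha.1 hb.1, by
              rw [show m * (a * b) * m⁻¹ = m * a * m⁻¹ * (m * b * m⁻¹) by group,
                hfW.apply_mul ((Subgroup.mem_normalizer_iff.mp (hnS hm.1) a).mp ha.1)
                  ((Subgroup.mem_normalizer_iff.mp (hnS hm.1) b).mp hb.1), ha.2, hb.2,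
                hfW.apply_mul ha.1 hb.1]
              group⟩
            inv_mem' := fun {a} ha => ⟨W.inv_mem ha.1, by
              rw [show m * a⁻¹ * m⁻¹ = (m * a * m⁻¹)⁻¹ by group,
                hfW.apply_inv ((Subgroup.mem_normalizer_iff.mp (hnS hm.1) a).mp ha.1), ha.2, hfW.apply_inv ha.1]
              group⟩ }
        have hle : W ≤ Eq := by
          refine sup_le (fun z hz => ⟨Subgroup.mem_sup_left hz, ?_⟩) fun z hz => ⟨Subgroup.mem_sup_right hz, ?_⟩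
          · rw [← Subgroup.mem_centralizer_iff.mp hm.2 z hz, mul_inv_cancel_right, hfC ⟨z, hz⟩,
              ← Subgroup.mem_centralizer_iff.mp hm.2 _ (SetLike.coe_mem (α ⟨z, hz⟩)), mul_inv_cancel_right]
          · rw [hfR _ ((Subgroup.mem_normalizer_iff.mp (hR.le_normalizer hm.1) z).mp hz), hfR z hz]
        exact (hle hx).2
      rw [show w * m * x * (w * m)⁻¹ = w * (m * x * m⁻¹) * w⁻¹ by group, hfW.apply_conj hw hmx, key]
      group
    obtain ⟨g, N', hg, hge⟩ := (hF.isReceptive_of_isFullyNormalized hS hWn).extend hfW hNS le_sup_left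
      (hNS.trans hnS) hN
    have hgm : ∀ m ∈ M, m⁻¹ * g m ∈ C0 ⊓ Subgroup.centralizer (C0 : Set Ω) := by
      intro m hm
      have hmN : m ∈ N := Subgroup.mem_sup_right hm
      have hgS : g m ∈ S := hg.le_right (hg.mem hmN)
      have hd : m⁻¹ * g m ∈ S := S.mul_mem (S.inv_mem hm.1) hgS
      have hconj : ∀ x ∈ W, g m * funOf χ x * (g m)⁻¹ = funOf χ (m * x * m⁻¹) := fun x hx => by
        rw [← hge _ ((Subgroup.mem_normalizer_iff.mp (hnS hm.1) x).mp hx), ← hge x hx,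
          hg.apply_conj hmN (Subgroup.mem_sup_left hx)]
      have h1 : m⁻¹ * g m ∈ Subgroup.centralizer (R : Set Ω) := by
        rw [Subgroup.mem_centralizer_iff]
        intro r hr
        have h2 := hconj r (Subgroup.mem_sup_right hr)
        rw [hfR r hr, hfR _ ((Subgroup.mem_normalizer_iff.mp (hR.le_normalizer hm.1) r).mp hr)] at h2
        calc r * (m⁻¹ * g m) = m⁻¹ * (m * r * m⁻¹) * g m := by group
          _ = m⁻¹ * g m * r := by rw [← h2]; group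
      refine ⟨⟨hd, h1⟩, Subgroup.mem_centralizer_iff.mpr fun c hc => ?_⟩
      obtain ⟨c₀, rfl⟩ : ∃ c₀ : C0, ((α c₀ : C0) : Ω) = c := ⟨α⁻¹ ⟨c, hc⟩, by simp⟩
      have h2 := hconj c₀ (Subgroup.mem_sup_left c₀.2)
      rw [← Subgroup.mem_centralizer_iff.mp hm.2 (c₀ : Ω) c₀.2, mul_inv_cancel_right, hfC] at h2
      have hc2 := Subgroup.mem_centralizer_iff.mp hm.2 _ (SetLike.coe_mem (α c₀))
      calc ((α c₀ : C0) : Ω) * (m⁻¹ * g m) = m⁻¹ * (m * (α c₀ : C0)) * (m⁻¹ * g m) := by group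
        _ = m⁻¹ * (((α c₀ : C0) : Ω) * g m) := by rw [← hc2]; group
        _ = m⁻¹ * g m * (α c₀ : C0) := by conv_lhs => rw [← h2]
                                          group
    have hgC : ∀ x ∈ C0, g x ∈ C0 := fun x hx => by
      rw [hge x (Subgroup.mem_sup_left hx), hfC ⟨x, hx⟩]; exact SetLike.coe_mem _
    obtain ⟨Q₁, hQ₁, -, -⟩ := hg.restrict (sup_le_sup_right (le_sup_left : C0 ≤ W) M)
    have hgself : F.IsIso (C0 ⊔ M) (C0 ⊔ M) g :=
      sup_image hQ₁ le_sup_left le_sup_right (image_self hQ₁ le_sup_left hgC)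
        (image_self hQ₁ le_sup_right fun m hm => map_centralizer hQ₁ le_sup_left
          (image_self hQ₁ le_sup_left hgC) hm (Subgroup.mem_sup_right hm))
    obtain ⟨β, hβ, hβe⟩ := hgself.toAut
    refine ⟨β, hβ, fun x => ?_, fun c hc => ?_⟩
    · rw [hβe]
      exact (hge x (Subgroup.mem_sup_left x.2)).trans (hfC x)
    · rw [hβe]
      exact hgm c hc

/-- A subsystem fixing `R ∩ U` commutes with `R` on its focal subgroup. -/
theorem focal_le_centralizer (hS : IsPGroup p S) (hR : F.IsNormal R) (hD : D.IsNormalIn F p)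
    (hC : ∀ Q, C.Hom Q ⊆ D.centralizerHom (R ⊓ U) Q) :
    C.focalSubgroup ≤ Subgroup.centralizer (R : Set Ω) := by
  rw [focalSubgroup, Subgroup.closure_le]
  rintro _ ⟨Q, φ, x, hφ, rfl⟩
  obtain ⟨-, hQC, hφC, ψ, hψ, hψe, hψR⟩ := hC Q hφ
  obtain ⟨-, g, V, hg, hge, hgR⟩ := hom_le_modSys hS hR hD (Q ⊔ (R ⊓ U)) hψ
  have hU := hD.1.2.2.2.1
  have hgx : φ x = g x := (hψe x).symm.trans (hge _)
  have hgfix : ∀ a ∈ R ⊓ U, g a = a := fun a ha => (hge _).symm.trans (hψR ⟨a, ha⟩)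
  rw [SetLike.mem_coe, Subgroup.mem_centralizer_iff]
  intro r hr
  have hxS : (x : Ω) ∈ S := centralizerIn_le.trans hU.1 (hQC x.2)
  obtain ⟨a, ha, e⟩ : ∃ a ∈ R ⊓ U, g r = r * a :=
    ⟨r⁻¹ * g r, ⟨R.mul_mem (R.inv_mem hr) (hgR r hr).1, (hgR r hr).2⟩, (mul_inv_cancel_left _ _).symm⟩
  have hxn : (x : Ω) * r * (x : Ω)⁻¹ ∈ R := (Subgroup.mem_normalizer_iff.mp (hR.le_normalizer hxS) r).mp hr
  have hb : (x : Ω) * r * (x : Ω)⁻¹ * r⁻¹ ∈ R ⊓ U := by
    refine ⟨R.mul_mem hxn (R.inv_mem hr), ?_⟩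
    have h1 : r * (x : Ω)⁻¹ * r⁻¹ ∈ U :=
      (Subgroup.mem_normalizer_iff.mp (hU.le_normalizer (hR.1 hr)) _).mp (U.inv_mem (centralizerIn_le (hQC x.2)))
    simpa [mul_assoc] using U.mul_mem (centralizerIn_le (hQC x.2)) h1
  have hxV : (x : Ω) ∈ Q ⊔ R ⊓ U ⊔ R := Subgroup.mem_sup_left (Subgroup.mem_sup_left x.2)
  have hrV : r ∈ Q ⊔ R ⊓ U ⊔ R := Subgroup.mem_sup_right hr
  have h2 := hgfix _ hb
  rw [hg.apply_mul (Subgroup.mem_sup_right hxn) (Subgroup.inv_mem _ hrV), hg.apply_inv hrV,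
    hg.apply_conj hxV hrV, ← hgx, e] at h2
  have hca : a * φ x = φ x * a := Subgroup.mem_centralizer_iff.mp (hφC x).2 a ha
  have h3 : φ x * r * (φ x)⁻¹ = (x : Ω) * r * (x : Ω)⁻¹ := by
    calc φ x * r * (φ x)⁻¹
        = φ x * (r * a) * (φ x)⁻¹ * (r * a)⁻¹ * r := by
          rw [show φ x * (r * a) * (φ x)⁻¹ * (r * a)⁻¹ * r
            = φ x * r * (a * (φ x)⁻¹ * a⁻¹) by group,
            show a * (φ x)⁻¹ * a⁻¹ = (a * φ x * a⁻¹)⁻¹ by group, hca]
          group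
      _ = (x : Ω) * r * (x : Ω)⁻¹ := by rw [h2]; group
  calc r * ((x : Ω)⁻¹ * φ x) = (x : Ω)⁻¹ * ((x : Ω) * r * (x : Ω)⁻¹) * φ x := by group
    _ = (x : Ω)⁻¹ * φ x * r := by rw [← h3]; group

/-- A saturated subsystem commuting with `R` and fixing `R ∩ U` centralises `R`. -/
theorem hom_le_centralizerHom (hS : IsPGroup p S) (hR : F.IsNormal R) (hD : D.IsNormalIn F p)
    (hCs : C.IsSaturated p) (hT : T ≤ U) (hTR : T ≤ Subgroup.centralizer (R : Set Ω))
    (hC : ∀ Q, C.Hom Q ⊆ D.centralizerHom (R ⊓ U) Q) :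
    ∀ Q, C.Hom Q ⊆ F.centralizerHom R Q := by
  have hU := hD.1.2.2.2.1
  have hTS : T ≤ S := hT.trans hU.1
  haveI := finite_of_le hTS
  have hTp : IsPGroup p T := hS.to_le hTS
  have htriv : ∀ t ∈ T, TrivMod R ⊥ fun r => t * r * t⁻¹ := fun t ht r hr => by
    have : t * r * t⁻¹ = r := by
      rw [← Subgroup.mem_centralizer_iff.mp (hTR ht) r hr, mul_inv_cancel_right]
    exact ⟨show t * r * t⁻¹ ∈ R by rw [this]; exact hr,
      show r⁻¹ * (t * r * t⁻¹) ∈ (⊥ : Subgroup Ω) by rw [this, inv_mul_cancel]; exact Subgroup.one_mem _⟩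
  set K := stab C F hR.1 ⊥ hTS htriv with hK
  suffices h : C ≤ K by
    intro Q φ hφ
    obtain ⟨-, g, V, hg, hge, hgR⟩ := h Q hφ
    have hQT : Q ≤ T := C.source_le hφ
    have hfix : ∀ r ∈ R, g r = r := fun r hr => (inv_mul_eq_one.mp (Subgroup.mem_bot.mp (hgR r hr).2)).symm
    obtain ⟨ψ, hψ, -, hψe⟩ := hg
    refine ⟨?_, fun x hx => ⟨hTS (hQT hx), hTR (hQT hx)⟩,
      fun x => ⟨hTS (C.apply_mem hφ x), hTR (C.apply_mem hφ x)⟩, ψ, hψ,
      fun x => (hψe _).trans (hge x).symm, fun r => (hψe _).trans (hfix r r.2)⟩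
    refine F.mem_of_restrict hψ le_sup_left fun x hx => ?_
    exact (hge ⟨x, hx⟩).trans (hψe ⟨x, Subgroup.mem_sup_left hx⟩).symm
  refine hCs.le_of_autGroup_le' hTp K fun Q hQ hbig => ?_
  have hQT : Q ≤ T := by
    rcases hQ with rfl | hQ
    · exact le_rfl
    · exact hQ.1.1
  have hQn : C.IsFullyNormalized Q := by
    rcases hQ with rfl | hQ
    · exact isFullyNormalized_self
    · exact hQ.2.1
  haveI := finite_autGroup (F := C) hQT
  obtain ⟨-, Usyl, hUsyl⟩ : C.IsFullyAutomized p Q := hCs.isFullyAutomized_of_isFullyNormalized hTp hQn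
  refine Subgroup.subgroupOf_eq_top.mp (eq_top_of_sylow_of_pprime ((K.autGroup Q).subgroupOf (C.autGroup Q))
    Usyl ?_ fun a ha => ?_)
  · rw [hUsyl]
    exact fun a ha => K.autInducedBy_le_autGroup hQT ha
  obtain ⟨φ, hφ, hφr, hφe⟩ := C.exists_map_of_mem_autGroup hQT a.2
  obtain ⟨-, -, -, ψ, hψ, hψe, hψR⟩ := hC Q hφ
  obtain ⟨-, g₀, V₀, hg₀, hg₀e, hg₀R⟩ := hom_le_modSys hS hR hD _ hψ
  have hle : Q ⊔ R ≤ Q ⊔ R ⊓ U ⊔ R := sup_le_sup_right le_sup_left R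
  obtain ⟨V₁, hV₁, -, -⟩ := hg₀.restrict hle
  have hge : ∀ x : Q, φ x = g₀ x := fun x => (hψe x).symm.trans (hg₀e _)
  have hg := HasExt.iso (W := U) hV₁ hge hg₀R
  rw [hφr] at hg
  have hfix0 : ∀ b ∈ R ⊓ U, g₀ b = b := fun b hb => (hg₀e _).symm.trans (hψR ⟨b, hb⟩)
  have haQ : ∀ x : Q, (((a : MulAut Q) x : Q) : Ω) = g₀ x := fun x => (hφe x).symm.trans (hge x)
  haveI := finite_mulAut_of_le (hQT.trans hTS)
  obtain ⟨k, hk, n, hn, hper⟩ := exists_iterate_pprime (p := p) hg (A := Q)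
    (m := orderOf (a : MulAut Q)) (by rwa [Subgroup.orderOf_coe]) fun x hx => by
      rw [← coe_pow_apply haQ _ ⟨x, hx⟩, pow_orderOf_eq_one]; rfl
  have hgk : F.IsIso (Q ⊔ R) (Q ⊔ R) g₀^[k] := iterate_isIso hg k
  have hkR : ∀ r ∈ R, (g₀^[k]) r ∈ R ∧ r⁻¹ * (g₀^[k]) r ∈ R ⊓ U := by
    clear hper hk hgk
    induction k with
    | zero => intro r hr; exact ⟨hr, by simp⟩
    | succ k ih =>
      intro r hr
      obtain ⟨h1, h2⟩ := ih r hr
      rw [Function.iterate_succ_apply']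
      refine ⟨(hg₀R _ h1).1, ?_⟩
      have := (R ⊓ U).mul_mem h2 ⟨R.mul_mem (R.inv_mem h1) (hg₀R _ h1).1, (hg₀R _ h1).2⟩
      simpa [mul_assoc] using this
  have hk0 : ∀ b ∈ R ⊓ U, (g₀^[k]) b = b := fun b hb => Function.iterate_fixed (hfix0 b hb) k
  refine mem_stab_autGroup hQT a.2 hgk (fun x => (haQ x).trans (hk x x.2).symm) fun r hr => ⟨(hkR r hr).1, ?_⟩
  exact mem_of_coprime_step hS hgk hn (Subgroup.mem_sup_right hr) (hper r (Subgroup.mem_sup_right hr))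
    (N := R ⊓ U) (inf_le_left.trans le_sup_right) bot_le
    (fun b hb => by rw [Subgroup.mem_bot.mp hb, hgk.apply_one]; exact Subgroup.one_mem _)
    (fun b hb => by rw [hk0 b hb, inv_mul_cancel]; exact Subgroup.one_mem _) (hkR r hr).2

end Cfsg.FusionSystem.CoreCent
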